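import Cfsg.Agent.Lib.CosetEnum.Defs

/-! Generated table data. -/

set_option autoImplicit false
set_option maxRecDepth 20000

namespace Cfsg.Lib.CosetEnum.Fi22O73Pts

/-- Table data. -/
def orb2_0_0 : Tab :=
  (.node 1 (.leaf 0x1f0000b40000400001130000b40000300000d70000b000005000000c0000b00000100000f20000ac0000500001430000a80000400001480000a80000000001390000a400003000011800009000004000004900008c00005000004800008c00002000014f00008800004000012f00008800000000002e00008400004000012c0000840000300000f900008000005000004a00008000001000012800007c0000300000ed0000780000500000b80000780000000000d300007400004000013300007000003000011f00006c0000500000570000680000200000de0000640000400001320000600000400000f100006000003000013100005c00005000005800005c00001000013e00005800003000010e0000540000500000d400005400000000010a0000500000500000c900005000003000007800004c0000300001190000480000500001040000480000200000670000440000100000cc00004000003000011700003c00005000011b00003c0000000001230000380000500000ea0000380000300000e700003400004000006800002c0000500000f800002c0000100000fe0000240000000000b00000200000500000f500002000003000010700001c00004000010000001c00002000005a00001800005000005900001800000000009f0000140000500000db0000140000300000cf0000100000400000df00001000001000004b00000c0000300000bb00000800004000001200000800000000003d00000400004000000a00000400003000000500000000005000000300000000000)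 (.leaf 0x1d00012400004000000b0001200000500000ee00010800000000002c00010400003000002a0001000000500000130000f40000400000fa0000f40000300000150000f00000500000060000f000002000012d0000e800005000010f0000d80000400000390000d40000500001140000c40000000000210000c00000400000d80000c000003000003c0000bc00005000003b0000bc00002))

/-- Table data. -/
def orb2_0 : Tab :=
  orb2_0_0

end Cfsg.Lib.CosetEnum.Fi22O73Pts
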