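import Cfsg.Agent.Lib.CosetEnum.Defs

/-! Generated table data. -/

set_option autoImplicit false
set_option maxRecDepth 20000

namespace Cfsg.Lib.CosetEnum.Fi22O73Pts

/-- Table data. -/
def orb3_0_0 : Tab :=
  (.leaf 0x600006c00002000003b00006400002000000c00006000001000004800005800002000004a0000540000100000b80000500000000000570000480000200000580000440000100000d40000400000000000c900003c00003000010400003800002000006700003400001000011b0000300000000000ea00002c0000300000e70000280000400000f80000240000100000fe0000200000000000f500001c0000300001070000180000400001000000180000200000590000140000000000db0000100000300000cf00000c0000400000df00000c00001000004b0000080000300000bb00000400004000001200000400000000003d00000000004000000a00000000003000000500000000000)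

/-- Table data. -/
def orb3_0 : Tab :=
  orb3_0_0

end Cfsg.Lib.CosetEnum.Fi22O73Pts
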