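import Cfsg.Agent.Lib.CosetEnum.Defs

/-! Generated table data. -/

set_option autoImplicit false
set_option maxRecDepth 20000

namespace Cfsg.Lib.CosetEnum.Fi22O73Pts

/-- Table data. -/
def orb4_0_0 : Tab :=
  (.leaf 0xf50000240000000000ea00001c00000000011b0000180000100000c90000140000000000d400001000001000005800000c0000200000b800000800001000004a00000400002000004800000400000000000c00000000002000003b00000000001000000600000000000)

/-- Table data. -/
def orb4_0 : Tab :=
  orb4_0_0

end Cfsg.Lib.CosetEnum.Fi22O73Pts
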