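import Cfsg.Agent.Lib.CosetEnum.Fi22O73Pts.Orbit_Data0
import Cfsg.Agent.Lib.CosetEnum.Fi22O73Pts.OrbitPos_Data0
import Cfsg.Agent.Lib.CosetEnum.Fi22O73Pts.TabP_Data0
import Cfsg.Agent.Lib.CosetEnum.Fi22O73Pts.TabV_Data0
import Cfsg.Agent.Lib.CosetEnum.Fi22O73Pts.TabIdx_Data0
import Cfsg.Agent.Lib.CosetEnum.Fi22O73Pts.Orb0_Data0
import Cfsg.Agent.Lib.CosetEnum.Fi22O73Pts.Pos0_Data0
import Cfsg.Agent.Lib.CosetEnum.Fi22O73Pts.Orb1_Data0
import Cfsg.Agent.Lib.CosetEnum.Fi22O73Pts.Pos1_Data0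
import Cfsg.Agent.Lib.CosetEnum.Fi22O73Pts.Orb2_Data0
import Cfsg.Agent.Lib.CosetEnum.Fi22O73Pts.Pos2_Data0
import Cfsg.Agent.Lib.CosetEnum.Fi22O73Pts.Orb3_Data0
import Cfsg.Agent.Lib.CosetEnum.Fi22O73Pts.Pos3_Data0
import Cfsg.Agent.Lib.CosetEnum.Fi22O73Pts.Orb4_Data0
import Cfsg.Agent.Lib.CosetEnum.Fi22O73Pts.Pos4_Data0
import Cfsg.Agent.Lib.CosetEnum.Fi22O73Pts.Orb5_Data0
import Cfsg.Agent.Lib.CosetEnum.Fi22O73Pts.Pos5_Data0

/-! Generated certificate. -/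

set_option autoImplicit false
set_option maxRecDepth 20000

namespace Cfsg.Lib.CosetEnum.Fi22O73Pts

/-- Table. -/
def orbit : Tab :=
  orbit_0

/-- Table. -/
def orbitPos : Tab :=
  orbitPos_0

/-- Table. -/
def tabP : Tab :=
  tabP_0

/-- Table. -/
def tabV : Tab :=
  tabV_0

/-- Table. -/
def tabIdx : Tab :=
  tabIdx_0

/-- Table. -/
def orb0 : Tab :=
  orb0_0

/-- Table. -/
def pos0 : Tab :=
  pos0_0

/-- Generators of a level. -/
def words0 : List (List Nat) :=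
  [[5],
    [6, 2, 3, 1, 2, 6, 4, 3, 2, 1, 0, 1, 2, 3, 4, 6, 2, 1, 3, 2, 6],
    [7],
    [4],
    [3, 2, 6, 7, 1, 2, 6, 3, 2, 1, 0, 1, 2, 3, 6, 2, 1, 7, 6, 2, 3],
    [3],
    [2],
    [1]]

/-- A level of the base. -/
def level0 : BaseLevel :=
  ⟨orb0, pos0, 351, words0⟩

/-- Table. -/
def orb1 : Tab :=
  orb1_0

/-- Table. -/
def pos1 : Tab :=
  pos1_0

/-- Generators of a level. -/
def words1 : List (List Nat) :=
  [[5],
    [6, 2, 3, 1, 2, 6, 4, 3, 2, 1, 0, 1, 2, 3, 4, 6, 2, 1, 3, 2, 6],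
    [7],
    [4],
    [3, 2, 6, 7, 1, 2, 6, 3, 2, 1, 0, 1, 2, 3, 6, 2, 1, 7, 6, 2, 3],
    [3],
    [2]]

/-- A level of the base. -/
def level1 : BaseLevel :=
  ⟨orb1, pos1, 224, words1⟩

/-- Table. -/
def orb2 : Tab :=
  orb2_0

/-- Table. -/
def pos2 : Tab :=
  pos2_0

/-- Generators of a level. -/
def words2 : List (List Nat) :=
  [[5],
    [6, 2, 3, 1, 2, 6, 4, 3, 2, 1, 0, 1, 2, 3, 4, 6, 2, 1, 3, 2, 6],
    [7],
    [4],
    [3, 2, 6, 7, 1, 2, 6, 3, 2, 1, 0, 1, 2, 3, 6, 2, 1, 7, 6, 2, 3],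
    [3]]

/-- A level of the base. -/
def level2 : BaseLevel :=
  ⟨orb2, pos2, 81, words2⟩

/-- Table. -/
def orb3 : Tab :=
  orb3_0

/-- Table. -/
def pos3 : Tab :=
  pos3_0

/-- Generators of a level. -/
def words3 : List (List Nat) :=
  [[5],
    [6, 2, 3, 1, 2, 6, 4, 3, 2, 1, 0, 1, 2, 3, 4, 6, 2, 1, 3, 2, 6],
    [7],
    [4],
    [3, 2, 6, 7, 1, 2, 6, 3, 2, 1, 0, 1, 2, 3, 6, 2, 1, 7, 6, 2, 3]]

/-- A level of the base. -/
def level3 : BaseLevel :=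
  ⟨orb3, pos3, 30, words3⟩

/-- Table. -/
def orb4 : Tab :=
  orb4_0

/-- Table. -/
def pos4 : Tab :=
  pos4_0

/-- Generators of a level. -/
def words4 : List (List Nat) :=
  [[5],
    [6, 2, 3, 1, 2, 6, 4, 3, 2, 1, 0, 1, 2, 3, 4, 6, 2, 1, 3, 2, 6],
    [7]]

/-- A level of the base. -/
def level4 : BaseLevel :=
  ⟨orb4, pos4, 12, words4⟩

/-- Table. -/
def orb5 : Tab :=
  orb5_0

/-- Table. -/
def pos5 : Tab :=
  pos5_0

/-- Generators of a level. -/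
def words5 : List (List Nat) :=
  [[5]]

/-- A level of the base. -/
def level5 : BaseLevel :=
  ⟨orb5, pos5, 2, words5⟩

/-- The generators of the subgroup in the large table. -/
def subWords : List (List Nat) :=
  [[1],
    [2],
    [3],
    [4],
    [5],
    [6],
    [7],
    [8]]

/-- The centres of the reflections. -/
def centres : List Nat :=
  [390, 1907, 1431, 328, 1420, 356, 87, 1676]

end Cfsg.Lib.CosetEnum.Fi22O73Pts
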