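import Cfsg.Agent.Lib.CosetEnum.Fi22O73Pts.Data
import Cfsg.Agent.Lib.CosetEnum.Fi22U62.Data
import Cfsg.Agent.Lib.CosetEnum.Restrict
import Cfsg.Agent.Lib.CosetEnum.O73Points

/-! Generated certificate. -/

set_option autoImplicit false
set_option maxRecDepth 20000

namespace Cfsg.Lib.CosetEnum.Fi22O73Pts

theorem restrict_ok : restrictOK Fi22U62.tabP orbit tabP 9 8 351 subWords 351 0 = true := by
  decide +kernel

theorem points_ok : O73.pointsOK tabV tabIdx tabP centres 8 351 351 0 = true := by
  decide +kernel

theorem centres_ok : centres.all (fun c => decide (O73.qf (O73.vec c) = 2)) = true := by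
  decide +kernel

end Cfsg.Lib.CosetEnum.Fi22O73Pts
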