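import Cfsg.Agent.Lib.CosetEnum.Fi22O73Pts.Data
import Cfsg.Agent.Lib.CosetEnum.Fi22U62.Data

/-! Generated certificate. -/

set_option autoImplicit false
set_option maxRecDepth 20000

namespace Cfsg.Lib.CosetEnum.Fi22O73Pts

theorem perm_ok : permOK tabP 8 351 [] 351 0 = true := by
  decide +kernel

theorem orbit_ok : orbitOK Fi22U62.tabP orbit orbitPos 9 3510 351 subWords 351 0 = true := by
  decide +kernel

theorem orbit0_ok : orbitOK tabP orb0 pos0 8 351 351 words0 351 0 = true := by
  decide +kernel

theorem nest0_ok : nestOK tabP 8 level0 words1 = true := by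
  decide +kernel

theorem orbit1_ok : orbitOK tabP orb1 pos1 8 351 224 words1 224 0 = true := by
  decide +kernel

theorem nest1_ok : nestOK tabP 8 level1 words2 = true := by
  decide +kernel

theorem orbit2_ok : orbitOK tabP orb2 pos2 8 351 81 words2 81 0 = true := by
  decide +kernel

theorem nest2_ok : nestOK tabP 8 level2 words3 = true := by
  decide +kernel

theorem orbit3_ok : orbitOK tabP orb3 pos3 8 351 30 words3 30 0 = true := by
  decide +kernel

theorem nest3_ok : nestOK tabP 8 level3 words4 = true := by
  decide +kernel

theorem orbit4_ok : orbitOK tabP orb4 pos4 8 351 12 words4 12 0 = true := by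
  decide +kernel

theorem nest4_ok : nestOK tabP 8 level4 words5 = true := by
  decide +kernel

theorem orbit5_ok : orbitOK tabP orb5 pos5 8 351 2 words5 2 0 = true := by
  decide +kernel

theorem nest5_ok : nestOK tabP 8 level5 [] = true := by
  decide +kernel

end Cfsg.Lib.CosetEnum.Fi22O73Pts
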